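import Groth.Agent.H02CA.FMConv.ProjNat
import Groth.Agent.H25FM.ProjT
import Groth.Agent.H25FM.Calc
import Groth.Agent.LeadBrown.LpullTensor
import Groth.Agent.H16Derived.BaseChange.Main
import Groth.Prelude.Def_DualFM

/-!
# Composition and base change of Fourier–Mukai functors
-/

set_option autoImplicit false
set_option linter.style.haveILetI false
set_option backward.isDefEq.respectTransparency false
set_option maxHeartbeats 1000000

universe u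

open CategoryTheory CategoryTheory.Limits CategoryTheory.Functor AlgebraicGeometry

attribute [local instance] HasDerivedCategory.standard

noncomputable section

namespace Groth.Agent.H02CA.FMConv

open Groth.Agent.H16Derived Groth.Agent.H16Derived.KFlat Groth.Agent.H16Derived.KFlat.Stalk

variable {X Y Z S : Scheme.{u}}

/-- `a ⊗ - ≅ - ⊗ a`. -/
def σNat (a : DCoh.D X) : (Dual.T X).obj a ≅ (Dual.T X).flip.obj a :=
  NatIso.ofComponents (fun b => Dual.σ a b) (fun g => Dual.σ_naturality_right _ g)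

/-- Tor independent base change, naturally. -/
theorem nonempty_bc_nat {X' Y' : Scheme.{u}} {f : X ⟶ Y} {f' : X' ⟶ Y'} {g : Y' ⟶ Y} {g' : X' ⟶ X}
    (h : IsPullback g' f' f g) [QuasiCompact f] [QuasiSeparated f] (hTI : BaseChange.TI f g)
    [DCoh.HasRpush f] [DCoh.HasLpull g] [DCoh.HasRpush f'] [DCoh.HasLpull g']
    {C : Type*} [Category C] (W : C ⥤ DCoh.D X) (hW : ∀ c, DCoh.IsQCohD (W.obj c)) :
    Nonempty (W ⋙ DCoh.Rpush f ⋙ DCoh.Lpull g ≅ W ⋙ DCoh.Lpull g' ⋙ DCoh.Rpush f') := by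
  haveI := QCohD.hasRpush g
  haveI := QCohD.hasRpush g'
  obtain ⟨e, he⟩ := BaseChange.exists_baseChangeApp_iso h hTI (lpullRpushAdj g) (lpullRpushAdj g')
  let τ : DCoh.Rpush f ⋙ DCoh.Lpull g ⟶ DCoh.Lpull g' ⋙ DCoh.Rpush f' :=
    { app := fun E => DCoh.baseChangeApp (lpullRpushAdj g) (lpullRpushAdj g') e E
      naturality := fun E E' φ => by
        show (DCoh.Lpull g).map ((DCoh.Rpush f).map φ) ≫ _ = _ ≫ (DCoh.Rpush f').map ((DCoh.Lpull g').map φ)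
        unfold DCoh.baseChangeApp
        rw [← Adjunction.homEquiv_naturality_left_symm, ← Adjunction.homEquiv_naturality_right_symm]
        refine congrArg ((lpullRpushAdj g).homEquiv _ _).symm ?_
        have hu := (lpullRpushAdj g').unit.naturality φ
        have hn := e.hom.naturality ((DCoh.Lpull g').map φ)
        refine ((Category.assoc _ _ _).symm.trans ((congrArg (· ≫ _) ((Functor.map_comp _ _ _).symm.trans
          ((congrArg (DCoh.Rpush f).map hu).trans (Functor.map_comp _ _ _)))).trans (Category.assoc _ _ _))).trans ?_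
        exact (congrArg (_ ≫ ·) hn).trans (Category.assoc _ _ _).symm }
  haveI : ∀ c, IsIso ((whiskerLeft W τ).app c) := fun c => he _ (hW c)
  haveI := NatIso.isIso_of_isIso_app (whiskerLeft W τ)
  exact ⟨asIso (whiskerLeft W τ)⟩

section Squares

variable (a : X ⟶ S) (b : Y ⟶ S) (c : Z ⟶ S)

theorem isPullback_p13_p23 :
    IsPullback (FMK.p13 a b c) (FMK.p23 a b c) (pullback.snd a c) (pullback.snd b c) := by
  have h1 : IsPullback (FMK.p12 a b c) (FMK.p23 a b c) (pullback.snd a b) (pullback.fst b c) :=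
    IsPullback.of_hasPullback _ _
  have h2 := h1.paste_horiz (IsPullback.of_hasPullback a b)
  refine IsPullback.of_right (h₁₂ := pullback.fst a c) (h₂₂ := c) (v₁₃ := a) ?_
    (FMK.p13_snd a b c) (IsPullback.of_hasPullback a c)
  rw [FMK.p13_fst, ← pullback.condition]
  exact h2

instance [QuasiCompact b] : QuasiCompact (FMK.p13 a b c) :=
  MorphismProperty.of_isPullback (isPullback_p13_p23 a b c).flip (inferInstance : QuasiCompact (pullback.snd b c))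

instance [QuasiSeparated b] : QuasiSeparated (FMK.p13 a b c) :=
  MorphismProperty.of_isPullback (isPullback_p13_p23 a b c).flip (inferInstance : QuasiSeparated (pullback.snd b c))

theorem ti_of_flat_or (h : Flat a ∨ Flat c) : BaseChange.TI (pullback.snd a b) (pullback.fst b c) := by
  rcases h with h | h
  · exact BaseChange.ti_of_flat _ _
  · exact BaseChange.ti_of_flat' _ _

end Squares

/-- `Φ_M ∘ Φ_K ≅ Φ_N` for `N` the convolution. -/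
theorem nonempty_phi_comp (a : X ⟶ S) (b : Y ⟶ S) (c : Z ⟶ S)
    [QuasiCompact a] [QuasiSeparated a] [QuasiCompact b] [QuasiSeparated b]
    (hflat : Flat a ∨ Flat c)
    (K : CochainComplex (Limits.pullback a b).Modules ℤ) (M : CochainComplex (Limits.pullback b c).Modules ℤ)
    (hK : DCoh.IsQCohD (DCoh.toD _ K)) (hM : DCoh.IsQCohD (DCoh.toD _ M))
    [DCoh.HasLpull (Limits.pullback.fst a b)] [DCoh.HasLTensorCx K] [DCoh.HasRpush (Limits.pullback.snd a b)]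
    [DCoh.HasLpull (Limits.pullback.fst b c)] [DCoh.HasLTensorCx M] [DCoh.HasRpush (Limits.pullback.snd b c)]
    [DCoh.HasLpull (FMK.p12 a b c)] [DCoh.HasLpull (FMK.p23 a b c)] [DCoh.HasRpush (FMK.p13 a b c)]
    [DCoh.HasLpull (Limits.pullback.fst a c)] [DCoh.HasRpush (Limits.pullback.snd a c)]
    (L : CochainComplex (FMK.T a b c).Modules ℤ) [DCoh.HasLTensorCx L]
    (hL : Nonempty (DCoh.toD _ L ≅ (DCoh.Lpull (FMK.p23 a b c)).obj (DCoh.toD _ M)))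
    (N : CochainComplex (Limits.pullback a c).Modules ℤ) [DCoh.HasLTensorCx N]
    (hN : Nonempty (DCoh.toD _ N ≅ FMK.conv a b c K L)) :
    Nonempty (ObjectProperty.ι (DCoh.IsQCohD (X := X)) ⋙ FMK.phi a c N ≅
      ObjectProperty.ι (DCoh.IsQCohD (X := X)) ⋙ FMK.phi a b K ⋙ FMK.phi b c M) := by
  let ι₀ := ObjectProperty.ι (DCoh.IsQCohD (X := X))
  let r₁ := pullback.fst a b
  let r₂ := pullback.snd a b
  let s₁ := pullback.fst b c
  let s₂ := pullback.snd b c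
  let t₁ := pullback.fst a c
  let t₂ := pullback.snd a c
  let g := FMK.p12 a b c
  let f := FMK.p23 a b c
  let q := FMK.p13 a b c
  haveI := QCohD.hasRpush f
  haveI := hasLpull q
  haveI := hasLpull (g ≫ r₁)
  haveI := QCohD.hasRpush (f ≫ s₂)
  let k := DerivedCategory.Q.obj K
  let m := DerivedCategory.Q.obj M
  let κ := (DCoh.Lpull g).obj k
  let μ := (DCoh.Lpull f).obj m
  let ν := ((Dual.T _).obj κ).obj μ
  obtain ⟨eL⟩ := hL
  obtain ⟨eN⟩ := hN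
  let eν : ((DCoh.Rpush q).obj ν) ≅ DerivedCategory.Q.obj N :=
    (DCoh.Rpush q).mapIso (((Dual.T _).obj κ).mapIso eL.symm ≪≫ (Dual.ltensorCxIsoT L).app κ) ≪≫ eN.symm
  have hν : DCoh.IsQCohD ν := LeadBrown.isQCohD_T (QCohD.isQCohD_lpull _ hK) (QCohD.isQCohD_lpull _ hM)
  let W₁ := ι₀ ⋙ DCoh.Lpull r₁ ⋙ (Dual.T _).flip.obj k
  have hW₁ : ∀ E, DCoh.IsQCohD (W₁.obj E) := fun E => LeadBrown.isQCohD_T (QCohD.isQCohD_lpull _ E.property) hK
  obtain ⟨bc⟩ := nonempty_bc_nat (IsPullback.of_hasPullback r₂ s₁) (ti_of_flat_or a b c hflat) W₁ hW₁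
  obtain ⟨pr⟩ := nonempty_projection_TFlip f (W₁ ⋙ DCoh.Lpull g) (fun E => QCohD.isQCohD_lpull _ (hW₁ E))
    (K := m) hM
  obtain ⟨rr⟩ := nonempty_rpushCompIso f s₂
  obtain ⟨cw⟩ : Nonempty (DCoh.Rpush f ⋙ DCoh.Rpush s₂ ≅ DCoh.Rpush q ⋙ DCoh.Rpush t₂) := by
    exact ⟨rr ≪≫ (H25FM.nonempty_rpush_comp q t₂ (f ≫ s₂) (FMK.p13_snd a b c)).some.symm⟩
  obtain ⟨ll⟩ := H25FM.nonempty_lpull_comp g r₁ (g ≫ r₁) rfl
  obtain ⟨ll'⟩ := H25FM.nonempty_lpull_comp q t₁ (g ≫ r₁) (FMK.p13_fst a b c)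
  obtain ⟨lt⟩ := LeadBrown.nonempty_lpull_TFlip g k
  obtain ⟨pf⟩ := H25FM.nonempty_projection_T (ι₀ ⋙ DCoh.Lpull t₁) (fun E => QCohD.isQCohD_lpull _ E.property) q ν hν
  let e₁ : ι₀ ⋙ FMK.phi a b K ⋙ FMK.phi b c M ≅
      (W₁ ⋙ DCoh.Rpush r₂ ⋙ DCoh.Lpull s₁) ⋙ (Dual.T _).flip.obj m ⋙ DCoh.Rpush s₂ :=
    isoWhiskerLeft ι₀ (isoWhiskerRight (isoWhiskerLeft (DCoh.Lpull r₁) (isoWhiskerRight (Dual.ltensorCxIsoT K).symm _)) _ ≪≫
      isoWhiskerLeft _ (isoWhiskerLeft (DCoh.Lpull s₁) (isoWhiskerRight (Dual.ltensorCxIsoT M).symm _)))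
  let e₂ : (W₁ ⋙ DCoh.Rpush r₂ ⋙ DCoh.Lpull s₁) ⋙ (Dual.T _).flip.obj m ⋙ DCoh.Rpush s₂ ≅
      (W₁ ⋙ DCoh.Lpull g ⋙ (Dual.T _).flip.obj μ) ⋙ DCoh.Rpush q ⋙ DCoh.Rpush t₂ :=
    isoWhiskerRight bc _ ≪≫
      (isoWhiskerRight pr (DCoh.Rpush s₂) :
        ((W₁ ⋙ DCoh.Lpull g) ⋙ DCoh.Rpush f ⋙ (Dual.T _).flip.obj m) ⋙ DCoh.Rpush s₂ ≅ _) ≪≫
      isoWhiskerLeft (W₁ ⋙ DCoh.Lpull g ⋙ (Dual.T _).flip.obj μ) cw
  let e₃ : W₁ ⋙ DCoh.Lpull g ⋙ (Dual.T _).flip.obj μ ≅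
      (ι₀ ⋙ DCoh.Lpull t₁) ⋙ DCoh.Lpull q ⋙ (Dual.T _).flip.obj ν :=
    isoWhiskerLeft (ι₀ ⋙ DCoh.Lpull r₁) (isoWhiskerRight lt ((Dual.T _).flip.obj μ) ≪≫
      isoWhiskerLeft (DCoh.Lpull g) (Dual.flipAssoc κ μ)) ≪≫
    isoWhiskerLeft ι₀ (isoWhiskerRight (ll ≪≫ ll'.symm) ((Dual.T _).flip.obj ν))
  let e₄ : ((ι₀ ⋙ DCoh.Lpull t₁) ⋙ DCoh.Lpull q ⋙ (Dual.T _).flip.obj ν) ⋙ DCoh.Rpush q ≅
      (ι₀ ⋙ DCoh.Lpull t₁) ⋙ DCoh.LTensorCx N :=
    isoWhiskerLeft (ι₀ ⋙ DCoh.Lpull t₁) (isoWhiskerLeft (DCoh.Lpull q) (isoWhiskerRight (σNat ν).symm (DCoh.Rpush q))) ≪≫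
      pf.symm ≪≫ isoWhiskerLeft _ (σNat _ ≪≫ (Dual.T _).flip.mapIso eν ≪≫ Dual.ltensorCxIsoT N)
  exact ⟨(e₁ ≪≫ e₂ ≪≫ isoWhiskerRight e₃ (DCoh.Rpush q ⋙ DCoh.Rpush t₂) ≪≫
    (isoWhiskerRight e₄ (DCoh.Rpush t₂) :
      (((ι₀ ⋙ DCoh.Lpull t₁) ⋙ DCoh.Lpull q ⋙ (Dual.T _).flip.obj ν) ⋙ DCoh.Rpush q) ⋙ DCoh.Rpush t₂ ≅ _)).symm⟩

end Groth.Agent.H02CA.FMConv
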