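import Groth.Agent.H02CA.FMConv.Conv
import Groth.Agent.LeadBrown.CopTensor
import Groth.Agent.LeadBrown.BCCore
import Groth.Agent.LeadBrown.BCAdjoint
import Groth.Agent.H16Derived.Dual.BiDual
import Groth.Agent.H16Derived.Dual.Main
import Groth.Agent.S3658
import Mathlib.CategoryTheory.Adjunction.FullyFaithful

/-!
# Adjoints of Fourier–Mukai functors
-/

set_option autoImplicit false
set_option linter.style.haveILetI false
set_option backward.isDefEq.respectTransparency false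
set_option maxHeartbeats 1000000

universe u

open CategoryTheory CategoryTheory.Limits CategoryTheory.Functor AlgebraicGeometry

attribute [local instance] HasDerivedCategory.standard

noncomputable section

namespace Groth.Agent.H02CA.FMConv

open Groth.Agent.H16Derived Groth.Agent.H16Derived.KFlat Groth.Agent.H16Derived.KFlat.Stalk

variable {S X Y P : Scheme.{u}}

/-- Inverse image along an isomorphism followed by direct image is the identity. -/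
theorem nonempty_lpull_rpush_iso (σ : X ⟶ Y) [IsIso σ] [DCoh.HasLpull σ] [DCoh.HasRpush σ] :
    Nonempty (DCoh.Lpull σ ⋙ DCoh.Rpush σ ≅ 𝟭 (DCoh.D Y)) := by
  haveI := hasLpull (inv σ)
  haveI := hasLpull (𝟙 X)
  haveI := hasLpull (𝟙 Y)
  obtain ⟨c₁⟩ := H25FM.nonempty_lpull_comp σ (inv σ) (𝟙 X) (IsIso.hom_inv_id σ)
  obtain ⟨c₂⟩ := H25FM.nonempty_lpull_comp (inv σ) σ (𝟙 Y) (IsIso.inv_hom_id σ)
  obtain ⟨i₁⟩ := H25FM.nonempty_lpull_id X
  obtain ⟨i₂⟩ := H25FM.nonempty_lpull_id Y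
  haveI : (DCoh.Lpull σ).IsEquivalence :=
    (CategoryTheory.Equivalence.mk (DCoh.Lpull σ) (DCoh.Lpull (inv σ)) (c₂ ≪≫ i₂).symm (c₁ ≪≫ i₁)).isEquivalence_functor
  exact ⟨(asIso (lpullRpushAdj σ).unit).symm⟩

/-- The Fourier–Mukai functor of a kernel moved by the symmetry. -/
theorem nonempty_phi_symm (a : X ⟶ S) (b : Y ⟶ S) [QuasiCompact b] [QuasiSeparated b]
    [DCoh.HasLpull (pullbackSymmetry b a).hom] [DCoh.HasLpull (pullback.snd a b)]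
    [DCoh.HasRpush (pullback.fst a b)]
    (κ : DCoh.D (pullback a b)) (K' : CochainComplex (pullback b a).Modules ℤ)
    (hK' : Nonempty (DCoh.toD _ K' ≅ (DCoh.Lpull (pullbackSymmetry b a).hom).obj κ))
    [DCoh.HasLpull (pullback.fst b a)] [DCoh.HasLTensorCx K'] [DCoh.HasRpush (pullback.snd b a)] :
    Nonempty (FMK.phi b a K' ≅
      DCoh.Lpull (pullback.snd a b) ⋙ (Dual.T _).flip.obj κ ⋙ DCoh.Rpush (pullback.fst a b)) := by
  obtain ⟨eK⟩ := hK'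
  let σ := (pullbackSymmetry b a).hom
  haveI := QCohD.hasRpush σ
  obtain ⟨l⟩ := H25FM.nonempty_lpull_comp σ (pullback.snd a b) (pullback.fst b a)
    (pullbackSymmetry_hom_comp_snd b a)
  obtain ⟨r⟩ := H25FM.nonempty_rpush_comp σ (pullback.fst a b) (pullback.snd b a)
    (pullbackSymmetry_hom_comp_fst b a)
  obtain ⟨t⟩ := LeadBrown.nonempty_lpull_TFlip σ κ
  obtain ⟨u⟩ := nonempty_lpull_rpush_iso σ
  exact ⟨isoWhiskerLeft _ (isoWhiskerRight ((Dual.ltensorCxIsoT K').symm ≪≫ (Dual.T _).flip.mapIso eK) _) ≪≫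
    isoWhiskerRight l.symm _ ≪≫ isoWhiskerLeft (DCoh.Lpull (pullback.snd a b))
      (isoWhiskerLeft (DCoh.Lpull σ) (isoWhiskerLeft ((Dual.T _).flip.obj _) r.symm) ≪≫
        (isoWhiskerRight t.symm (DCoh.Rpush σ ⋙ DCoh.Rpush (pullback.fst a b)) :
          _ ≅ ((Dual.T _).flip.obj κ ⋙ DCoh.Lpull σ) ⋙ DCoh.Rpush σ ⋙ DCoh.Rpush (pullback.fst a b)) ≪≫
        (isoWhiskerLeft ((Dual.T _).flip.obj κ) (isoWhiskerRight u (DCoh.Rpush (pullback.fst a b))) :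
          _ ≅ (Dual.T _).flip.obj κ ⋙ 𝟭 _ ⋙ DCoh.Rpush (pullback.fst a b)))⟩

section General

variable (r₁ : P ⟶ X) (r₂ : P ⟶ Y) [DCoh.HasLpull r₁] [DCoh.HasRpush r₂] [DCoh.HasLpull r₂] [DCoh.HasRpush r₁]

/-- The right adjoint of `M ↦ Rr₂_*(Lr₁^* M ⊗ k)` is `N ↦ Rr₁_*(Lr₂^* N ⊗ a(O) ⊗ k^∨)`. -/
theorem nonempty_adj_general [CompactSpace Y] [QuasiSeparatedSpace Y] [IsProper r₂] [Flat r₂]
    [LocallyOfFinitePresentation r₂] [QuasiCompact r₁] [QuasiSeparated r₁]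
    {k : DCoh.D P} (hk : DCoh.IsPerfect k)
    {hr : DCoh.RpushPreservesQCoh r₂} {a' : DCoh.DQCoh Y ⥤ DCoh.DQCoh P} (adj : DCoh.RpushQ r₂ hr ⊣ a')
    (O : DCoh.DQCoh Y) (eO : Nonempty (O.obj ≅ DCoh.inD Y (Coh.structureModule Y)))
    (F : DCoh.DQCoh X ⥤ DCoh.DQCoh Y)
    (eF : Nonempty (F ⋙ ObjectProperty.ι _ ≅
      ObjectProperty.ι _ ⋙ DCoh.Lpull r₁ ⋙ (Dual.T P).flip.obj k ⋙ DCoh.Rpush r₂))
    (G : DCoh.DQCoh Y ⥤ DCoh.DQCoh X)
    (eG : Nonempty (G ⋙ ObjectProperty.ι _ ≅ ObjectProperty.ι _ ⋙ DCoh.Lpull r₂ ⋙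
      (Dual.T P).flip.obj (((Dual.T P).obj (a'.obj O).obj).obj (Dual.ro k)) ⋙ DCoh.Rpush r₁)) :
    Nonempty (F ⊣ G) := by
  obtain ⟨eF⟩ := eF
  obtain ⟨eG⟩ := eG
  let E := DerivedCategory.Q.objPreimage (a'.obj O).obj
  let eE : DCoh.toD P E ≅ (a'.obj O).obj := DerivedCategory.Q.objObjPreimageIso _
  haveI := hasLTensorCx E
  obtain ⟨ea⟩ := S3658.result P Y r₂ hr a' adj O eO E ⟨eE⟩
  obtain ⟨eR⟩ := LeadBrown.nonempty_R_iso hk
  have hk' := Dual.isQCohD_of_isPerfect hk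
  let A : DCoh.DQCoh X ⥤ DCoh.DQCoh P := ObjectProperty.lift _ (ObjectProperty.ι _ ⋙ DCoh.Lpull r₁ ⋙ (Dual.T P).flip.obj k)
    fun M => LeadBrown.isQCohD_T (QCohD.isQCohD_lpull _ M.property) hk'
  let B : DCoh.DQCoh P ⥤ DCoh.DQCoh X := ObjectProperty.lift _ (ObjectProperty.ι _ ⋙ Dual.R k ⋙ DCoh.Rpush r₁)
    fun N => QCohD.isQCohD_rpush r₁ (K := (Dual.R k).obj N.obj) (LeadBrown.isQCohD_R_perfect hk N.property)
  let adj₁ : A ⊣ B := ((lpullRpushAdj r₁).comp (Dual.adjR k)).restrictFullyFaithful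
    (ObjectProperty.fullyFaithfulι _) (ObjectProperty.fullyFaithfulι _) (Iso.refl _) (Iso.refl _)
  let adj₂ : A ⋙ DCoh.RpushQ r₂ hr ⊣ a' ⋙ B := adj₁.comp adj
  let e₁ : A ⋙ DCoh.RpushQ r₂ hr ≅ F :=
    ((ObjectProperty.fullyFaithfulι _).whiskeringRight (DCoh.DQCoh X)).preimageIso eF.symm
  let f₂ : ObjectProperty.ι _ ⋙ DCoh.Lpull r₂ ⋙
      (Dual.T P).flip.obj (((Dual.T P).obj (a'.obj O).obj).obj (Dual.ro k)) ⋙ DCoh.Rpush r₁ ≅
      (a' ⋙ ObjectProperty.ι _) ⋙ Dual.R k ⋙ DCoh.Rpush r₁ :=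
    isoWhiskerLeft (ObjectProperty.ι _ ⋙ DCoh.Lpull r₂)
      (isoWhiskerRight ((Dual.flipAssoc (a'.obj O).obj (Dual.ro k)).symm ≪≫
        isoWhiskerRight ((Dual.T P).flip.mapIso eE.symm ≪≫ Dual.ltensorCxIsoT E) _ ≪≫
        isoWhiskerLeft (DCoh.LTensorCx E) eR) (DCoh.Rpush r₁)) ≪≫
    (isoWhiskerRight ea.symm (Dual.R k ⋙ DCoh.Rpush r₁) : _ ≅ _)
  let e₂ : a' ⋙ B ≅ G :=
    ((ObjectProperty.fullyFaithfulι _).whiskeringRight (DCoh.DQCoh Y)).preimageIso (eG ≪≫ f₂).symm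
  exact ⟨(adj₂.ofNatIsoLeft e₁).ofNatIsoRight e₂⟩

end General

/-- The inclusion of perfect objects into objects with quasi-coherent cohomology. -/
def perfInclQ (X : Scheme.{u}) : (SGA6.perfP X).FullSubcategory ⥤ DCoh.DQCoh X :=
  ObjectProperty.lift _ (ObjectProperty.ι (SGA6.perfP X)) fun M => Dual.isQCohD_of_isPerfect M.property

/-- It is fully faithful. -/
def perfInclQFF (X : Scheme.{u}) : (perfInclQ X).FullyFaithful where
  preimage f := ObjectProperty.homMk f.hom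

/-- Adjunctions restrict to perfect objects. -/
theorem nonempty_restrict_perf {F : DCoh.DQCoh X ⥤ DCoh.DQCoh Y} {G : DCoh.DQCoh Y ⥤ DCoh.DQCoh X} (adj : F ⊣ G)
    (F' : (SGA6.perfP X).FullSubcategory ⥤ (SGA6.perfP Y).FullSubcategory)
    (G' : (SGA6.perfP Y).FullSubcategory ⥤ (SGA6.perfP X).FullSubcategory)
    (e₁ : Nonempty (perfInclQ X ⋙ F ≅ F' ⋙ perfInclQ Y)) (e₂ : Nonempty (perfInclQ Y ⋙ G ≅ G' ⋙ perfInclQ X)) :
    Nonempty (F' ⊣ G') :=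
  ⟨adj.restrictFullyFaithful (perfInclQFF X) (perfInclQFF Y) e₁.some e₂.some⟩

end Groth.Agent.H02CA.FMConv
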