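import Groth.Agent.H02CA.FMConv.Conv
import Groth.Agent.H16Derived.TorTest.TorIndepPC
import Groth.Agent.H25FM.Single

/-!
# Base change of convolutions and of relative equivalence kernels
-/

set_option autoImplicit false
set_option linter.style.haveILetI false
set_option backward.isDefEq.respectTransparency false
set_option maxHeartbeats 1000000

universe u

open CategoryTheory CategoryTheory.Limits CategoryTheory.Functor AlgebraicGeometry

attribute [local instance] HasDerivedCategory.standard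

noncomputable section

namespace Groth.Agent.H02CA.FMConv

open Groth.Agent.H16Derived Groth.Agent.H16Derived.KFlat Groth.Agent.H16Derived.KFlat.Stalk

variable {S S' X Y Z : Scheme.{u}} (a : X ⟶ S) (b : Y ⟶ S) (c : Z ⟶ S) (g : S' ⟶ S)

/-- The comparison map of the triple products. -/
def tmap : FMK.T (pullback.snd a g) (pullback.snd b g) (pullback.snd c g) ⟶ FMK.T a b c :=
  pullback.map _ _ _ _ (hmap a b g) (hmap b c g) (pullback.fst b g)
    (pullback.lift_snd _ _ _).symm (pullback.lift_fst _ _ _).symm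

theorem tmap_p12 : tmap a b c g ≫ FMK.p12 a b c =
    FMK.p12 (pullback.snd a g) (pullback.snd b g) (pullback.snd c g) ≫ hmap a b g :=
  pullback.lift_fst _ _ _

theorem tmap_p23 : tmap a b c g ≫ FMK.p23 a b c =
    FMK.p23 (pullback.snd a g) (pullback.snd b g) (pullback.snd c g) ≫ hmap b c g :=
  pullback.lift_snd _ _ _

theorem tmap_p13 : tmap a b c g ≫ FMK.p13 a b c =
    FMK.p13 (pullback.snd a g) (pullback.snd b g) (pullback.snd c g) ≫ hmap a c g := by
  apply pullback.hom_ext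
  · rw [Category.assoc, FMK.p13_fst, ← Category.assoc, tmap_p12, Category.assoc, Category.assoc,
      pullback.lift_fst, pullback.lift_fst, FMK.p13_fst_assoc]
  · rw [Category.assoc, FMK.p13_snd, ← Category.assoc, tmap_p23, Category.assoc, Category.assoc,
      pullback.lift_snd, pullback.lift_snd, FMK.p13_snd_assoc]

theorem isPullback_tmap : IsPullback (tmap a b c g)
    (FMK.p13 (pullback.snd a g) (pullback.snd b g) (pullback.snd c g)) (FMK.p13 a b c) (hmap a c g) := by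
  have h2 := (isPullback_p13_p23 (pullback.snd a g) (pullback.snd b g) (pullback.snd c g)).flip.paste_horiz
    (isPullback_hmap b c g)
  refine IsPullback.of_right (h₁₂ := FMK.p23 a b c) (h₂₂ := pullback.snd a c) (v₁₃ := pullback.snd b c) ?_
    (tmap_p13 a b c g) (isPullback_p13_p23 a b c).flip
  rw [tmap_p23, show hmap a c g ≫ pullback.snd a c = pullback.snd _ _ ≫ pullback.fst c g from pullback.lift_snd _ _ _]
  exact h2

/-- The derived inverse image of a convolution is the convolution of the derived inverse images. -/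
theorem nonempty_pull_conv [Flat a] [Flat b] [QuasiCompact b] [QuasiSeparated b]
    (K : CochainComplex (pullback a b).Modules ℤ) (M : CochainComplex (pullback b c).Modules ℤ)
    (hK : DCoh.IsQCohD (DCoh.toD _ K)) (hM : DCoh.IsQCohD (DCoh.toD _ M))
    [DCoh.HasLpull (FMK.p12 a b c)] [DCoh.HasLTensorCx ((FMK.cxPull (FMK.p23 a b c)).obj M)]
    [DCoh.HasRpush (FMK.p13 a b c)]
    [DCoh.HasLpull (hmap a b g)] [DCoh.HasLpull (hmap b c g)] [DCoh.HasLpull (hmap a c g)]
    (K₁ : CochainComplex (pullback (pullback.snd a g) (pullback.snd b g)).Modules ℤ)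
    (hK₁ : Nonempty (DCoh.toD _ K₁ ≅ (DCoh.Lpull (hmap a b g)).obj (DCoh.toD _ K)))
    (M₁ : CochainComplex (pullback (pullback.snd b g) (pullback.snd c g)).Modules ℤ)
    (hM₁ : Nonempty (DCoh.toD _ M₁ ≅ (DCoh.Lpull (hmap b c g)).obj (DCoh.toD _ M)))
    [DCoh.HasLpull (FMK.p12 (pullback.snd a g) (pullback.snd b g) (pullback.snd c g))]
    [DCoh.HasLTensorCx ((FMK.cxPull (FMK.p23 (pullback.snd a g) (pullback.snd b g) (pullback.snd c g))).obj M₁)]
    [DCoh.HasRpush (FMK.p13 (pullback.snd a g) (pullback.snd b g) (pullback.snd c g))] :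
    Nonempty ((DCoh.Lpull (hmap a c g)).obj (FMK.conv a b c K ((FMK.cxPull (FMK.p23 a b c)).obj M)) ≅
      FMK.conv (pullback.snd a g) (pullback.snd b g) (pullback.snd c g) K₁
        ((FMK.cxPull (FMK.p23 (pullback.snd a g) (pullback.snd b g) (pullback.snd c g))).obj M₁)) := by
  obtain ⟨eK⟩ := hK₁
  obtain ⟨eM⟩ := hM₁
  let a' := pullback.snd a g
  let b' := pullback.snd b g
  let c' := pullback.snd c g
  let t := tmap a b c g
  let g₁ := FMK.p12 a b c
  let f₁ := FMK.p23 a b c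
  let g₂ := FMK.p12 a' b' c'
  let f₂ := FMK.p23 a' b' c'
  haveI := hasLpull t
  haveI := hasLpull f₁
  haveI := hasLpull f₂
  haveI := hasLpull (t ≫ g₁)
  haveI := hasLpull (t ≫ f₁)
  haveI : Flat f₁ := inferInstance
  haveI : Flat f₂ := inferInstance
  haveI : Flat (pullback.snd b c) := inferInstanceAs (Flat (pullback.snd b c))
  haveI := flat_p13 a b c
  obtain ⟨p₁⟩ := nonempty_cxPull f₁ M
  obtain ⟨p₂⟩ := nonempty_cxPull f₂ M₁
  let κ := (DCoh.Lpull g₁).obj (DCoh.toD _ K)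
  let μ := DCoh.toD _ ((FMK.cxPull f₁).obj M)
  have hν : DCoh.IsQCohD (((Dual.T _).obj κ).obj μ) :=
    LeadBrown.isQCohD_T (QCohD.isQCohD_lpull _ hK) (QCohD.isQCohD_iso p₁.symm (QCohD.isQCohD_lpull _ hM))
  obtain ⟨bc⟩ := nonempty_bc_nat (isPullback_tmap a b c g) (BaseChange.ti_of_flat _ _)
    (ObjectProperty.ι (DCoh.IsQCohD (X := FMK.T a b c))) (fun E => E.property)
  let ν : DCoh.DQCoh (FMK.T a b c) := ⟨((Dual.T _).obj κ).obj μ, hν⟩
  obtain ⟨lt⟩ := LeadBrown.nonempty_lpull_TFlip t μ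
  obtain ⟨c₁⟩ := H25FM.nonempty_lpull_comp t g₁ (t ≫ g₁) rfl
  obtain ⟨c₂⟩ := H25FM.nonempty_lpull_comp g₂ (hmap a b g) (t ≫ g₁) (tmap_p12 a b c g).symm
  obtain ⟨d₁⟩ := H25FM.nonempty_lpull_comp t f₁ (t ≫ f₁) rfl
  obtain ⟨d₂⟩ := H25FM.nonempty_lpull_comp f₂ (hmap b c g) (t ≫ f₁) (tmap_p23 a b c g).symm
  let eμ : (DCoh.Lpull t).obj μ ≅ DCoh.toD _ ((FMK.cxPull f₂).obj M₁) :=
    (DCoh.Lpull t).mapIso p₁ ≪≫ (d₁ ≪≫ d₂.symm).app (DCoh.toD _ M) ≪≫ (DCoh.Lpull f₂).mapIso eM.symm ≪≫ p₂.symm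
  let eκ : (DCoh.Lpull t).obj κ ≅ (DCoh.Lpull g₂).obj (DCoh.toD _ K₁) :=
    (c₁ ≪≫ c₂.symm).app (DCoh.toD _ K) ≪≫ (DCoh.Lpull g₂).mapIso eK.symm
  exact ⟨(DCoh.Lpull (hmap a c g)).mapIso ((DCoh.Rpush (FMK.p13 a b c)).mapIso
      ((Dual.ltensorCxIsoT _).app κ).symm) ≪≫ bc.app ν ≪≫
    (DCoh.Rpush (FMK.p13 a' b' c')).mapIso (lt.app κ ≪≫ ((Dual.T _).flip.obj _).mapIso eκ ≪≫
      ((Dual.T _).obj _).mapIso eμ ≪≫ (Dual.ltensorCxIsoT _).app _)⟩

/-- The diagonal kernel commutes with base change. -/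
theorem nonempty_pull_diagO [IsSeparated a] [Flat a] [DCoh.HasLpull (hmap a a g)] :
    Nonempty ((DCoh.Lpull (hmap a a g)).obj (FMK.diagO a) ≅ FMK.diagO (pullback.snd a g)) := by
  let π := pullback.fst a g
  haveI := hasLpull π
  have H : IsPullback π (pullback.diagonal (pullback.snd a g)) (pullback.diagonal a) (hmap a a g) := by
    refine IsPullback.of_bot ?_ ?_ (isPullback_hmap a a g)
    · rw [pullback.diagonal_snd, pullback.diagonal_snd]
      exact IsPullback.of_vert_isIso ⟨by simp [π]⟩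
    · apply pullback.hom_ext <;> simp [π]
  have H₀ := (isPullback_hmap a a g).paste_vert (IsPullback.of_hasPullback a g)
  haveI : Flat (pullback.diagonal a ≫ pullback.snd a a ≫ a) := by rw [pullback.diagonal_snd_assoc]; infer_instance
  obtain ⟨e⟩ := TorTest.nonempty_lpull_pushD_indep H H₀ (DCoh.inD X (Coh.structureModule X)) 0
  obtain ⟨o⟩ := H25FM.nonempty_lpull_inD π (isFlat_of_isFinLocFree
    (H22Alg.PnVan.finLocFree_of_inv (H22Alg.PnDeg0.isInvertible_structure X)))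
  let p := H8Props.PushPC.pushDInD (pullback.diagonal a) (Coh.structureModule X)
  let p' := H8Props.PushPC.pushDInD (pullback.diagonal (pullback.snd a g)) (Coh.structureModule (pullback a g))
  exact ⟨(DCoh.Lpull (hmap a a g)).mapIso p.symm ≪≫ e ≪≫
    (H8Props.PushPC.pushD _).mapIso (o ≪≫ (DerivedCategory.singleFunctor _ 0).mapIso (structurePullbackIso π)) ≪≫ p'⟩

/-- The condition on a pair of kernels of a relative equivalence commutes with base change. -/
theorem nonempty_diag_conv_baseChange [IsSeparated a] [Flat a] [Flat b] [QuasiCompact b] [QuasiSeparated b]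
    (K : CochainComplex (pullback a b).Modules ℤ) (M : CochainComplex (pullback b a).Modules ℤ)
    (hK : DCoh.IsQCohD (DCoh.toD _ K)) (hM : DCoh.IsQCohD (DCoh.toD _ M))
    [DCoh.HasLpull (FMK.p12 a b a)] [DCoh.HasLTensorCx ((FMK.cxPull (FMK.p23 a b a)).obj M)]
    [DCoh.HasRpush (FMK.p13 a b a)]
    (h : Nonempty (FMK.diagO a ≅ FMK.conv a b a K ((FMK.cxPull (FMK.p23 a b a)).obj M)))
    [DCoh.HasLpull (hmap a b g)] [DCoh.HasLpull (hmap b a g)]
    (K₁ : CochainComplex (pullback (pullback.snd a g) (pullback.snd b g)).Modules ℤ)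
    (hK₁ : Nonempty (DCoh.toD _ K₁ ≅ (DCoh.Lpull (hmap a b g)).obj (DCoh.toD _ K)))
    (M₁ : CochainComplex (pullback (pullback.snd b g) (pullback.snd a g)).Modules ℤ)
    (hM₁ : Nonempty (DCoh.toD _ M₁ ≅ (DCoh.Lpull (hmap b a g)).obj (DCoh.toD _ M)))
    [DCoh.HasLpull (FMK.p12 (pullback.snd a g) (pullback.snd b g) (pullback.snd a g))]
    [DCoh.HasLTensorCx ((FMK.cxPull (FMK.p23 (pullback.snd a g) (pullback.snd b g) (pullback.snd a g))).obj M₁)]
    [DCoh.HasRpush (FMK.p13 (pullback.snd a g) (pullback.snd b g) (pullback.snd a g))] :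
    Nonempty (FMK.diagO (pullback.snd a g) ≅
      FMK.conv (pullback.snd a g) (pullback.snd b g) (pullback.snd a g) K₁
        ((FMK.cxPull (FMK.p23 (pullback.snd a g) (pullback.snd b g) (pullback.snd a g))).obj M₁)) := by
  haveI := hasLpull (hmap a a g)
  obtain ⟨h⟩ := h
  obtain ⟨c⟩ := nonempty_pull_conv a b a g K M hK hM K₁ hK₁ M₁ hM₁
  obtain ⟨d⟩ := nonempty_pull_diagO a g
  exact ⟨d.symm ≪≫ (DCoh.Lpull (hmap a a g)).mapIso h ≪≫ c⟩

section Rel

variable {S X Y : Scheme.{u}} (a : X ⟶ S) (b : Y ⟶ S) (K : CochainComplex (pullback a b).Modules ℤ)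
    [DCoh.HasLpull (FMK.p12 a b a)] [DCoh.HasRpush (FMK.p13 a b a)]
    [∀ L : CochainComplex (FMK.T a b a).Modules ℤ, DCoh.HasLTensorCx L]
    [DCoh.HasLpull (FMK.p12 b a b)] [DCoh.HasRpush (FMK.p13 b a b)]
    [∀ L : CochainComplex (FMK.T b a b).Modules ℤ, DCoh.HasLTensorCx L]

/-- The data of a relative equivalence kernel. -/
theorem exists_of_isRelEquivKernel (hK : FMK.IsRelEquivKernel a b K) :
    DCoh.IsPerfect (DCoh.toD _ K) ∧
      ∃ K' : CochainComplex (pullback b a).Modules ℤ, DCoh.IsPerfect (DCoh.toD _ K') ∧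
        Nonempty (FMK.diagO a ≅ FMK.conv a b a K ((FMK.cxPull (FMK.p23 a b a)).obj K')) ∧
        Nonempty (FMK.diagO b ≅ FMK.conv b a b K' ((FMK.cxPull (FMK.p23 b a b)).obj K)) := hK

/-- Building a relative equivalence kernel. -/
theorem isRelEquivKernel_mk (hK : DCoh.IsPerfect (DCoh.toD _ K))
    (K' : CochainComplex (pullback b a).Modules ℤ) (hK' : DCoh.IsPerfect (DCoh.toD _ K'))
    (h₁ : Nonempty (FMK.diagO a ≅ FMK.conv a b a K ((FMK.cxPull (FMK.p23 a b a)).obj K')))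
    (h₂ : Nonempty (FMK.diagO b ≅ FMK.conv b a b K' ((FMK.cxPull (FMK.p23 b a b)).obj K))) :
    FMK.IsRelEquivKernel a b K := ⟨hK, K', hK', h₁, h₂⟩

end Rel

/-- Relative equivalence kernels are stable under base change. -/
theorem isRelEquivKernel_baseChange [IsSeparated a] [Flat a] [QuasiCompact a]
    [IsSeparated b] [Flat b] [QuasiCompact b]
    (K : CochainComplex (pullback a b).Modules ℤ)
    [DCoh.HasLpull (FMK.p12 a b a)] [DCoh.HasRpush (FMK.p13 a b a)]
    [∀ L : CochainComplex (FMK.T a b a).Modules ℤ, DCoh.HasLTensorCx L]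
    [DCoh.HasLpull (FMK.p12 b a b)] [DCoh.HasRpush (FMK.p13 b a b)]
    [∀ L : CochainComplex (FMK.T b a b).Modules ℤ, DCoh.HasLTensorCx L]
    (hK : FMK.IsRelEquivKernel a b K)
    [DCoh.HasLpull (FMK.p12 (pullback.snd a g) (pullback.snd b g) (pullback.snd a g))]
    [DCoh.HasRpush (FMK.p13 (pullback.snd a g) (pullback.snd b g) (pullback.snd a g))]
    [∀ L : CochainComplex (FMK.T (pullback.snd a g) (pullback.snd b g) (pullback.snd a g)).Modules ℤ,
      DCoh.HasLTensorCx L]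
    [DCoh.HasLpull (FMK.p12 (pullback.snd b g) (pullback.snd a g) (pullback.snd b g))]
    [DCoh.HasRpush (FMK.p13 (pullback.snd b g) (pullback.snd a g) (pullback.snd b g))]
    [∀ L : CochainComplex (FMK.T (pullback.snd b g) (pullback.snd a g) (pullback.snd b g)).Modules ℤ,
      DCoh.HasLTensorCx L]
    [DCoh.HasLpull (hmap a b g)]
    (K₁ : CochainComplex (pullback (pullback.snd a g) (pullback.snd b g)).Modules ℤ)
    (hK₁ : Nonempty (DCoh.toD _ K₁ ≅ (DCoh.Lpull (hmap a b g)).obj (DCoh.toD _ K))) :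
    FMK.IsRelEquivKernel (pullback.snd a g) (pullback.snd b g) K₁ := by
  obtain ⟨hKp, K', hK', h₁, h₂⟩ := exists_of_isRelEquivKernel a b K hK
  have hKq := Dual.isQCohD_of_isPerfect hKp
  have hK'q := Dual.isQCohD_of_isPerfect hK'
  haveI := hasLpull (hmap b a g)
  obtain ⟨K₁', hK₁'⟩ : ∃ M, Nonempty (DCoh.toD _ M ≅ (DCoh.Lpull (hmap b a g)).obj (DCoh.toD _ K')) :=
    ⟨_, ⟨DerivedCategory.Q.objObjPreimageIso _⟩⟩
  exact isRelEquivKernel_mk _ _ K₁ (isPerfect_of_iso hK₁.some.symm (isPerfect_lpull _ hKp)) K₁'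
    (isPerfect_of_iso hK₁'.some.symm (isPerfect_lpull _ hK'))
    (nonempty_diag_conv_baseChange a b g K K' hKq hK'q h₁ K₁ hK₁ K₁' hK₁')
    (nonempty_diag_conv_baseChange b a g K' K hK'q hKq h₂ K₁' hK₁' K₁ hK₁)

end Groth.Agent.H02CA.FMConv
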