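import Groth.Agent.H02CA.FMConv.Pull
import Groth.Agent.H02CA.DiagKernel
import Groth.Agent.H16Derived.BaseChange.Finiteness
import Groth.Agent.H8Props.ClosedBaseChange
import Groth.Prelude.Def_SGA6

/-!
# Convolution of perfect kernels
-/

set_option autoImplicit false
set_option linter.style.haveILetI false
set_option backward.isDefEq.respectTransparency false
set_option maxHeartbeats 1000000

universe u

open CategoryTheory CategoryTheory.Limits CategoryTheory.Functor AlgebraicGeometry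

attribute [local instance] HasDerivedCategory.standard

noncomputable section

namespace Groth.Agent.H02CA.FMConv

open Groth.Agent.H16Derived Groth.Agent.H16Derived.KFlat Groth.Agent.H16Derived.KFlat.Stalk

variable {S X Y Z : Scheme.{u}}

/-- Termwise inverse image along a flat morphism is the derived one. -/
theorem nonempty_cxPull {X X' : Scheme.{u}} (f : X' ⟶ X) [Flat f] [DCoh.HasLpull f]
    (K : CochainComplex X.Modules ℤ) :
    Nonempty (DCoh.toD X' ((FMK.cxPull f).obj K) ≅ (DCoh.Lpull f).obj (DCoh.toD X K)) := by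
  haveI := preservesFiniteLimits_pullback_of_flat f
  obtain ⟨e⟩ := Groth.Agent.H8Props.ClosedBC.nonempty_lpull_flat f (DCoh.toD X K)
  exact ⟨((Scheme.Modules.pullback f).mapDerivedCategoryFactors.app K).symm ≪≫ e.symm⟩

theorem isPerfect_T' {a b : DCoh.D X} (ha : DCoh.IsPerfect a) (hb : DCoh.IsPerfect b) :
    DCoh.IsPerfect (((Dual.T X).obj a).obj b) := by
  obtain ⟨L, hL, ⟨e⟩⟩ := exists_kflat_rep b
  haveI := hasLTensorCx L
  exact isPerfect_of_iso ((Dual.ltensorCxIsoT L).symm.app a ≪≫ ((Dual.T X).obj a).mapIso e)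
    (isPerfect_ltensorCx L ((isKFlat_iff' L).2 hL) (isPerfect_of_iso e.symm hb) ha)

section Kernels

variable (a : X ⟶ S) (b : Y ⟶ S) (c : Z ⟶ S)

theorem flat_p13 [Flat b] : Flat (FMK.p13 a b c) :=
  MorphismProperty.of_isPullback (isPullback_p13_p23 a b c).flip (inferInstance : Flat (pullback.snd b c))

theorem isProper_p13 [IsProper b] : IsProper (FMK.p13 a b c) :=
  MorphismProperty.of_isPullback (isPullback_p13_p23 a b c).flip (inferInstance : IsProper (pullback.snd b c))

theorem lfp_p13 [LocallyOfFinitePresentation b] : LocallyOfFinitePresentation (FMK.p13 a b c) :=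
  MorphismProperty.of_isPullback (isPullback_p13_p23 a b c).flip
    (inferInstance : LocallyOfFinitePresentation (pullback.snd b c))

/-- The convolution of perfect kernels is perfect. -/
theorem isPerfect_conv [Flat b] [IsProper b] [LocallyOfFinitePresentation b]
    (K : CochainComplex (pullback a b).Modules ℤ) (L : CochainComplex (FMK.T a b c).Modules ℤ)
    [DCoh.HasLpull (FMK.p12 a b c)] [DCoh.HasLTensorCx L] [DCoh.HasRpush (FMK.p13 a b c)]
    (hK : DCoh.IsPerfect (DCoh.toD _ K)) (hL : DCoh.IsPerfect (DCoh.toD _ L)) :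
    DCoh.IsPerfect (FMK.conv a b c K L) := by
  haveI := flat_p13 a b c
  haveI := isProper_p13 a b c
  haveI := lfp_p13 a b c
  exact BaseChange.isPerfect_rpush _ (isPerfect_of_iso ((Dual.ltensorCxIsoT L).app _)
    (isPerfect_T' (isPerfect_lpull _ hK) hL))

/-- A Fourier–Mukai functor preserves quasi-coherent cohomology. -/
theorem isQCohD_phi [QuasiCompact a] [QuasiSeparated a]
    (K : CochainComplex (pullback a b).Modules ℤ) (hK : DCoh.IsQCohD (DCoh.toD _ K))
    [DCoh.HasLpull (pullback.fst a b)] [DCoh.HasLTensorCx K] [DCoh.HasRpush (pullback.snd a b)]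
    {M : DCoh.D X} (hM : DCoh.IsQCohD M) : DCoh.IsQCohD ((FMK.phi a b K).obj M) :=
  QCohD.isQCohD_rpush (pullback.snd a b) (K := (DCoh.LTensorCx K).obj ((DCoh.Lpull (pullback.fst a b)).obj M))
    (QCohD.isQCohD_iso ((Dual.ltensorCxIsoT K).app _)
      (LeadBrown.isQCohD_T (QCohD.isQCohD_lpull _ hM) hK))

/-- A Fourier–Mukai functor with perfect kernel preserves perfect objects. -/
theorem isPerfect_phi [Flat a] [IsProper a] [LocallyOfFinitePresentation a]
    (K : CochainComplex (pullback a b).Modules ℤ) (hK : DCoh.IsPerfect (DCoh.toD _ K))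
    [DCoh.HasLpull (pullback.fst a b)] [DCoh.HasLTensorCx K] [DCoh.HasRpush (pullback.snd a b)]
    {M : DCoh.D X} (hM : DCoh.IsPerfect M) : DCoh.IsPerfect ((FMK.phi a b K).obj M) :=
  BaseChange.isPerfect_rpush (pullback.snd a b) (E := (DCoh.LTensorCx K).obj ((DCoh.Lpull (pullback.fst a b)).obj M))
    (isPerfect_of_iso ((Dual.ltensorCxIsoT K).app _) (isPerfect_T' (isPerfect_lpull _ hM) hK))

end Kernels

/-- An isomorphism on quasi-coherent objects restricts to perfect ones. -/
def restrictPerf {D : Type*} [Category D] {F G : DCoh.D X ⥤ D}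
    (e : ObjectProperty.ι (DCoh.IsQCohD (X := X)) ⋙ F ≅ ObjectProperty.ι (DCoh.IsQCohD (X := X)) ⋙ G) :
    ObjectProperty.ι (SGA6.perfP X) ⋙ F ≅ ObjectProperty.ι (SGA6.perfP X) ⋙ G :=
  NatIso.ofComponents (fun M => e.app ⟨M.obj, Dual.isQCohD_of_isPerfect M.property⟩)
    (fun {M M'} φ => e.hom.naturality
      (X := (⟨M.obj, Dual.isQCohD_of_isPerfect M.property⟩ : DCoh.DQCoh X))
      (Y := ⟨M'.obj, Dual.isQCohD_of_isPerfect M'.property⟩) (ObjectProperty.homMk φ.hom))

/-- Composition of the functors of two kernels whose convolution is the diagonal. -/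
theorem nonempty_comp_id (a : X ⟶ S) (b : Y ⟶ S) [QuasiCompact a] [IsSeparated a] [Flat a]
    [QuasiCompact b] [QuasiSeparated b]
    (K : CochainComplex (pullback a b).Modules ℤ) (K' : CochainComplex (pullback b a).Modules ℤ)
    (hK : DCoh.IsQCohD (DCoh.toD _ K)) (hK' : DCoh.IsQCohD (DCoh.toD _ K'))
    [DCoh.HasLpull (pullback.fst a b)] [DCoh.HasLTensorCx K] [DCoh.HasRpush (pullback.snd a b)]
    [DCoh.HasLpull (pullback.fst b a)] [DCoh.HasLTensorCx K'] [DCoh.HasRpush (pullback.snd b a)]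
    [DCoh.HasLpull (FMK.p12 a b a)] [DCoh.HasRpush (FMK.p13 a b a)]
    [DCoh.HasLTensorCx ((FMK.cxPull (FMK.p23 a b a)).obj K')]
    (h : Nonempty (FMK.diagO a ≅ FMK.conv a b a K ((FMK.cxPull (FMK.p23 a b a)).obj K'))) :
    Nonempty (ObjectProperty.ι (DCoh.IsQCohD (X := X)) ⋙ FMK.phi a b K ⋙ FMK.phi b a K' ≅
      ObjectProperty.ι (DCoh.IsQCohD (X := X)) ⋙ 𝟭 (DCoh.D X)) := by
  obtain ⟨e⟩ := h
  let N := DerivedCategory.Q.objPreimage (FMK.diagO a)
  let eN : DCoh.toD _ N ≅ FMK.diagO a := DerivedCategory.Q.objObjPreimageIso _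
  haveI := hasLpull (FMK.p23 a b a)
  haveI := hasLpull (pullback.fst a a)
  haveI := QCohD.hasRpush (pullback.snd a a)
  haveI := hasLTensorCx N
  haveI : Flat (FMK.p23 a b a) := inferInstance
  obtain ⟨i⟩ := DiagKernel.nonempty_phi_diag a N ⟨eN⟩
  obtain ⟨j⟩ := nonempty_phi_comp a b a (Or.inl inferInstance) K K' hK hK' _
    (nonempty_cxPull (FMK.p23 a b a) K') N ⟨eN ≪≫ e⟩
  exact ⟨j.symm ≪≫ isoWhiskerLeft _ i⟩

end Groth.Agent.H02CA.FMConv
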