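import Groth.Agent.H02CA.FMConv.Adj
import Groth.Agent.LeadBrown.Rel.Gorenstein
import Groth.Agent.LeadBrown.RelPerfectFP

/-!
# The dualizing complex of a Gorenstein morphism and adjoints of Fourier–Mukai functors
-/

set_option autoImplicit false
set_option linter.style.haveILetI false
set_option backward.isDefEq.respectTransparency false
set_option maxHeartbeats 1000000

universe u

open CategoryTheory CategoryTheory.Limits CategoryTheory.Functor AlgebraicGeometry

attribute [local instance] HasDerivedCategory.standard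

noncomputable section

namespace Groth.Agent.H02CA.FMConv

open Groth.Agent.H16Derived Groth.Agent.H16Derived.KFlat Groth.Agent.H16Derived.KFlat.Stalk

variable {S X Y P : Scheme.{u}}

/-- The relative dualizing complex of a proper flat Gorenstein morphism over a noetherian base is perfect. -/
theorem isPerfect_shriek_gorenstein [IsNoetherian S] (f : X ⟶ S) [IsProper f] [Flat f]
    (hG : Dual3.IsGorensteinMor f) [DCoh.HasRpush f] {hf : DCoh.RpushPreservesQCoh f}
    {a : DCoh.DQCoh S ⥤ DCoh.DQCoh X} (adj : DCoh.RpushQ f hf ⊣ a) (O : DCoh.DQCoh S)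
    (eO : O.obj ≅ DCoh.inD S (Coh.structureModule S)) : DCoh.IsPerfect (a.obj O).obj := by
  haveI : IsLocallyNoetherian X := LocallyOfFiniteType.isLocallyNoetherian f
  haveI : CompactSpace X := QuasiCompact.compactSpace_of_compactSpace f
  haveI : IsNoetherian X := { }
  haveI : LocallyOfFinitePresentation f := inferInstance
  haveI : ∀ y : S, DCoh.HasLpull (f.fiberι y) := fun y => hasLpull _
  let c : DEt.Compactification f :=
    ⟨X, 𝟙 X, f, inferInstance, inferInstance, Category.id_comp f⟩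
  haveI : DCoh.HasRpush c.fbar := ‹DCoh.HasRpush f›
  haveI := c.isOpenImmersion
  refine isPerfect_of_rd fun x => ?_
  obtain ⟨U, l, hl, m, hx, ⟨e⟩⟩ := LeadBrown.Rel.exists_unit_of_isGorensteinAt
    (H8Props.PseudoCoh.isPerfectMor_of_flat f) c (hc := hf) adj O eO (hG x)
  obtain ⟨e'⟩ := LeadBrown.nonempty_rd_id (a.obj O).obj
  refine ⟨l.opensRange, hx, isPerfect_of_iso
    (rdComp l.isoOpensRange.inv l _ l.isoOpensRange_inv_comp _).symm (isPerfect_rd l.isoOpensRange.inv ?_)⟩
  exact isPerfect_of_iso (e.symm ≪≫ (rd l).mapIso e') (isPerfect_shift (PnD.isPerfect_one U) m)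

open Groth.Agent.H16Derived.Dual (T R ro one oneIso)

/-- The relative dualizing complex of a proper flat morphism tensored with its dual is the unit, if it is perfect. -/
theorem nonempty_dualizing_invertible [CompactSpace S] [QuasiSeparatedSpace S] (f : X ⟶ S) [IsProper f] [Flat f]
    [LocallyOfFinitePresentation f] [DCoh.HasRpush f] {hf : DCoh.RpushPreservesQCoh f}
    {a : DCoh.DQCoh S ⥤ DCoh.DQCoh X} (adj : DCoh.RpushQ f hf ⊣ a) (O : DCoh.DQCoh S)
    (eO : O.obj ≅ DCoh.inD S (Coh.structureModule S)) (hω : DCoh.IsPerfect (a.obj O).obj) :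
    Nonempty (((T X).obj (a.obj O).obj).obj (ro (a.obj O).obj) ≅ one X) := by
  let E := DerivedCategory.Q.objPreimage (a.obj O).obj
  let eE : DCoh.toD X E ≅ (a.obj O).obj := DerivedCategory.Q.objObjPreimageIso _
  haveI := hasLTensorCx E
  haveI : DCoh.HasRSheafHom E :=
    ((Dual.adjR (DerivedCategory.Q.obj E)).ofNatIsoLeft (Dual.ltensorCxIsoT E)).isLeftAdjoint
  let υ : (DCoh.LTensorCx E).obj (DCoh.inD X (Coh.structureModule X)) ≅ DCoh.toD X E :=
    (Dual.ltensorCxIsoT E).symm.app _ ≪≫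
      Dual.σ (DCoh.inD X (Coh.structureModule X)) (DerivedCategory.Q.obj E) ≪≫
      ((T X).obj _).mapIso oneIso ≪≫ (Dual.rightUnit X).app (DerivedCategory.Q.obj E)
  haveI := LeadBrown.isIso_dualizing_unit adj O eO E eE υ
  let u := asIso (((DCoh.RSheafHomAdj E).homEquiv (DCoh.inD X (Coh.structureModule X)) (DCoh.toD X E)) υ.hom)
  exact ⟨Dual.θIso hω (a.obj O).obj ≪≫ (R _).mapIso eE.symm ≪≫ (Dual.RIso eE).symm.app _ ≪≫
    (Dual.rsheafHomIso E).symm.app _ ≪≫ u.symm ≪≫ oneIso⟩

/-- `ω ⊗ RHom(k^∨ ⊗ ω, O) ≅ k` for perfect `k` and invertible `ω`. -/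
theorem nonempty_dual_twist {k ω : DCoh.D X} (hk : DCoh.IsPerfect k)
    (e : ((T X).obj ω).obj (ro ω) ≅ one X) :
    Nonempty (((T X).obj ω).obj (ro (((T X).obj (ro k)).obj ω)) ≅ k) := by
  haveI := Dual.isIso_w hk
  let e₁ : ro (((T X).obj (ro k)).obj ω) ≅ ((T X).obj (ro ω)).obj k :=
    (Dual.curryIso (ro k) ω (one X)).symm ≪≫ (Dual.θIso (Dual.isPerfect_ro hk) (ro ω)).symm ≪≫
      ((T X).obj (ro ω)).mapIso (asIso (Dual.w k)).symm
  exact ⟨((T X).obj ω).mapIso e₁ ≪≫ ((Dual.flipAssoc (ro ω) k).symm.app ω :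
      ((T X).obj ω).obj (((T X).obj (ro ω)).obj k) ≅ ((T X).obj (((T X).obj ω).obj (ro ω))).obj k) ≪≫
    ((T X).mapIso e).app k ≪≫ Dual.σ (one X) k ≪≫ (Dual.rightUnit X).app k⟩

/-- Base change of the dualizing complex of a Gorenstein morphism: it is perfect and invertible. -/
theorem exists_gorenstein_baseChange [IsNoetherian S] {f : X ⟶ S} {g : Y ⟶ S} {f' : P ⟶ Y} {g' : P ⟶ X}
    (hsq : IsPullback g' f' f g) [IsProper f] [Flat f] [LocallyOfFiniteType g] [QuasiCompact g]
    (hG : Dual3.IsGorensteinMor f) [DCoh.HasRpush f] [DCoh.HasRpush f'] [DCoh.HasLpull g']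
    {hf : DCoh.RpushPreservesQCoh f} {a : DCoh.DQCoh S ⥤ DCoh.DQCoh X} (adj : DCoh.RpushQ f hf ⊣ a)
    (O : DCoh.DQCoh S) (eO : O.obj ≅ DCoh.inD S (Coh.structureModule S)) :
    ∃ (hr : DCoh.RpushPreservesQCoh f') (a' : DCoh.DQCoh Y ⥤ DCoh.DQCoh P) (_ : DCoh.RpushQ f' hr ⊣ a')
      (O' : DCoh.DQCoh Y) (_ : O'.obj ≅ DCoh.inD Y (Coh.structureModule Y)),
      Nonempty ((DCoh.Lpull g').obj (a.obj O).obj ≅ (a'.obj O').obj) ∧ DCoh.IsPerfect (a'.obj O').obj ∧
        Nonempty (((T P).obj (a'.obj O').obj).obj (ro (a'.obj O').obj) ≅ one P) := by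
  haveI : IsLocallyNoetherian Y := LocallyOfFiniteType.isLocallyNoetherian g
  haveI : CompactSpace Y := QuasiCompact.compactSpace_of_compactSpace g
  haveI : IsNoetherian Y := { }
  haveI : QuasiSeparated g := inferInstance
  haveI : LocallyOfFinitePresentation f := inferInstance
  haveI : IsProper f' := MorphismProperty.of_isPullback hsq ‹IsProper f›
  haveI : Flat f' := MorphismProperty.of_isPullback hsq ‹Flat f›
  haveI : LocallyOfFinitePresentation f' :=
    MorphismProperty.of_isPullback hsq ‹LocallyOfFinitePresentation f›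
  obtain ⟨hr, a', adj', O', eO', ⟨e⟩⟩ := LeadBrown.exists_lpull_dualizing hsq hf adj O eO
  have hp : DCoh.IsPerfect (a'.obj O').obj :=
    isPerfect_of_iso e (isPerfect_lpull g' (isPerfect_shriek_gorenstein f hG adj O eO))
  exact ⟨hr, a', adj', O', eO', ⟨e⟩, hp, nonempty_dualizing_invertible f' adj' O' eO' hp⟩

/-- The dual kernel twisted by `W`. -/
theorem nonempty_twistKernel (K W : CochainComplex P.Modules ℤ) [DCoh.HasLTensorCx K] [DCoh.HasRSheafHom K]
    [DCoh.HasLTensorCx W] {ω : DCoh.D P} (eW : DCoh.toD P W ≅ ω) :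
    Nonempty ((DCoh.LTensorCx W).obj ((DCoh.RSheafHom K).obj (DCoh.inD P (Coh.structureModule P))) ≅
      ((T P).obj (ro (DCoh.toD P K))).obj ω) :=
  ⟨(Dual.ltensorCxIsoT W).symm.app _ ≪≫ ((T P).obj _).mapIso eW ≪≫ ((T P).mapIso (Dual.dualIso K)).app ω⟩

end Groth.Agent.H02CA.FMConv
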