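import Groth.Agent.H16Derived.ProjFormula.DQc
import Groth.Agent.H16Derived.KInjRes.Main
import Groth.Agent.LeadBrown.PerfTensor

/-!
# The projection formula map is natural in the object of the source
-/

set_option autoImplicit false
set_option linter.style.haveILetI false
set_option backward.isDefEq.respectTransparency false
set_option maxHeartbeats 1000000

universe u

open CategoryTheory CategoryTheory.Limits CategoryTheory.Functor AlgebraicGeometry

attribute [local instance] HasDerivedCategory.standard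

noncomputable section

namespace Groth.Agent.H02CA.FMConv

open Groth.Agent.H16Derived Groth.Agent.H16Derived.KFlat Groth.Agent.H16Derived.KFlat.Stalk
open Groth.Agent.H16Derived.ProjFormula

variable {X Y : Scheme.{u}}

/-- The counit is natural in the first complex. -/
theorem εSnd_naturality_left {K K' : Dual.Cx X} (g : K ⟶ K') (L : Dual.Cx X) :
    ((Dual.T X).map (DerivedCategory.Q.map g)).app (DerivedCategory.Q.obj L) ≫ (Dual.εSnd K').app L =
      (Dual.εSnd K).app L ≫ DerivedCategory.Q.map (((DCoh.tensorCx (X := X)).map g).app L) := by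
  refine Eq.trans ?_ (((Dual.ε X).naturality (Prod.mkHom g (𝟙 L))).trans ?_)
  · refine congrArg (· ≫ _) ?_
    exact congrArg (fun z => (Dual.T₂ X).map z) (Prod.ext rfl (DerivedCategory.Q.map_id L).symm)
  · refine congrArg (_ ≫ DerivedCategory.Q.map ·) ?_
    show (DCoh.tensorCx.map g).app L ≫ (DCoh.tensorCx.obj K').map (𝟙 L) = (DCoh.tensorCx.map g).app L
    rw [CategoryTheory.Functor.map_id, Category.comp_id]

variable (f : X ⟶ Y) {I I' : CochainComplex X.Modules ℤ} (g : I ⟶ I')

/-- `Ψ` is natural in the complex on the source. -/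
theorem Ψ_naturality_left (P : CochainComplex Y.Modules ℤ) :
    ((DCoh.tensorCx (X := Y)).map ((pushCx f).map g)).app P ≫ Ψ f I' P =
      Ψ f I P ≫ (pushCx f).map (((DCoh.tensorCx (X := X)).map g).app ((pullCx f).obj P)) := by
  refine HomologicalComplex.hom_ext _ _ fun n => HomologicalComplex.mapBifunctor.hom_ext fun p q h => ?_
  have a₁ : HomologicalComplex.ιMapBifunctor ((pushCx f).obj I) P (DCoh.tensorBi (X := Y)) (ComplexShape.up ℤ) p q n h ≫
      (((DCoh.tensorCx (X := Y)).map ((pushCx f).map g)).app P).f n =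
      ((DCoh.tensorBi (X := Y)).map ((push f).map (g.f p))).app (P.X q) ≫
        HomologicalComplex.ιMapBifunctor ((pushCx f).obj I') P (DCoh.tensorBi (X := Y)) (ComplexShape.up ℤ) p q n h := by
    refine (HomologicalComplex.ι_mapBifunctorMap _ _ _ _ _ _ _ h).trans ?_
    dsimp
    erw [CategoryTheory.Functor.map_id, Category.id_comp]
    rfl
  have a₂ := ι_Ψ f I' P p q n h
  have a₃ := ι_Ψ f I P p q n h
  have a₄ : HomologicalComplex.ιMapBifunctor I ((pullCx f).obj P) (DCoh.tensorBi (X := X)) (ComplexShape.up ℤ) p q n h ≫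
      (((DCoh.tensorCx (X := X)).map g).app ((pullCx f).obj P)).f n =
      ((DCoh.tensorBi (X := X)).map (g.f p)).app ((pull f).obj (P.X q)) ≫
        HomologicalComplex.ιMapBifunctor I' ((pullCx f).obj P) (DCoh.tensorBi (X := X)) (ComplexShape.up ℤ) p q n h := by
    refine (HomologicalComplex.ι_mapBifunctorMap _ _ _ _ _ _ _ h).trans ?_
    dsimp
    erw [CategoryTheory.Functor.map_id, Category.id_comp]
    rfl
  refine ((Category.assoc _ _ _).symm.trans ((congrArg (· ≫ _) a₁).trans ((Category.assoc _ _ _).trans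
    ((congrArg (_ ≫ ·) a₂).trans (Category.assoc _ _ _).symm)))).trans ?_
  refine ((congrArg (· ≫ _) (ψ_naturality_left f (g.f p) (P.X q))).trans (Category.assoc _ _ _)).trans ?_
  refine Eq.trans ?_ ((congrArg (· ≫ _) a₃).symm.trans (Category.assoc _ _ _))
  refine Eq.trans ?_ (Category.assoc _ _ _).symm
  exact congrArg (_ ≫ ·) (((push f).map_comp _ _).symm.trans
    ((congrArg (push f).map a₄).symm.trans ((push f).map_comp _ _)))

variable [DCoh.HasLpull f] [DCoh.HasRpush f]

theorem θr_naturality_left (P : CochainComplex Y.Modules ℤ) :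
    ((Dual.T Y).map (DerivedCategory.Q.map ((pushCx f).map g))).app (DerivedCategory.Q.obj P) ≫ θr f I' P =
      θr f I P ≫ (DCoh.Rpush f).map (DerivedCategory.Q.map
        (((DCoh.tensorCx (X := X)).map g).app ((pullCx f).obj P))) := by
  have h1 := εSnd_naturality_left ((pushCx f).map g) P
  have h2 := (DerivedCategory.Q.map_comp _ _).symm.trans
    ((congrArg DerivedCategory.Q.map (Ψ_naturality_left f g P)).trans (DerivedCategory.Q.map_comp _ _))
  have h3 := (η₀ f).naturality (((DCoh.tensorCx (X := X)).map g).app ((pullCx f).obj P))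
  unfold θr
  refine ((Category.assoc _ _ _).symm.trans ((congrArg (· ≫ _) h1).trans (Category.assoc _ _ _))).trans ?_
  refine ((congrArg (_ ≫ ·) ((Category.assoc _ _ _).symm.trans ((congrArg (· ≫ _) h2).trans
    ((Category.assoc _ _ _).trans (congrArg (_ ≫ ·) h3)))))).trans ?_
  exact ((congrArg (_ ≫ ·) (Category.assoc _ _ _).symm).trans (Category.assoc _ _ _).symm)

theorem θt_naturality_left (P : CochainComplex Y.Modules ℤ) :
    (DCoh.Rpush f).map (((Dual.T X).map (DerivedCategory.Q.map g)).app ((DCoh.Lpull f).obj (DerivedCategory.Q.obj P))) ≫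
        θt f I' P =
      θt f I P ≫ (DCoh.Rpush f).map (DerivedCategory.Q.map
        (((DCoh.tensorCx (X := X)).map g).app ((pullCx f).obj P))) := by
  unfold θt
  refine ((DCoh.Rpush f).map_comp _ _).symm.trans (Eq.trans (congrArg (DCoh.Rpush f).map ?_)
    ((DCoh.Rpush f).map_comp _ _))
  have h1 := ((Dual.T X).map (DerivedCategory.Q.map g)).naturality ((lam₀ f).app P)
  have h2 := εSnd_naturality_left g ((pullCx f).obj P)
  refine ((Category.assoc _ _ _).symm.trans ((congrArg (· ≫ _) h1.symm).trans (Category.assoc _ _ _))).trans ?_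
  exact (congrArg (_ ≫ ·) h2).trans (Category.assoc _ _ _).symm

theorem θ₀_naturality_left (C : CochainComplex Y.Modules ℤ) :
    ((Dual.T Y).map (DerivedCategory.Q.map ((pushCx f).map g))).app (DerivedCategory.Q.obj C) ≫ (θ₀ f I').app C =
      (θ₀ f I).app C ≫ (DCoh.Rpush f).map
        (((Dual.T X).map (DerivedCategory.Q.map g)).app ((DCoh.Lpull f).obj (DerivedCategory.Q.obj C))) := by
  let P := (KFlat.Stalk.res (X := Y)).obj C
  haveI := isIso_Qresψ C
  haveI := isIso_θt f I P (isKFlat_res C)
  haveI := isIso_θt f I' P (isKFlat_res C)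
  let G₁ := (Dual.T Y).map (DerivedCategory.Q.map ((pushCx f).map g))
  let G₂ := whiskerRight (whiskerLeft (DCoh.Lpull f) ((Dual.T X).map (DerivedCategory.Q.map g))) (DCoh.Rpush f)
  have n1 := G₁.naturality (inv (DerivedCategory.Q.map ((resψ (X := Y)).app C)))
  have n2 : G₂.app (DerivedCategory.Q.obj P) ≫ (GG f I').map (DerivedCategory.Q.map ((resψ (X := Y)).app C)) =
      (GG f I).map (DerivedCategory.Q.map ((resψ (X := Y)).app C)) ≫ G₂.app (DerivedCategory.Q.obj C) :=
    (G₂.naturality (DerivedCategory.Q.map ((resψ (X := Y)).app C))).symm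
  have hr := θr_naturality_left f g P
  have ht : inv (θt f I P) ≫ G₂.app (DerivedCategory.Q.obj P) =
      (DCoh.Rpush f).map (DerivedCategory.Q.map (((DCoh.tensorCx (X := X)).map g).app ((pullCx f).obj P))) ≫
        inv (θt f I' P) := by
    rw [IsIso.inv_comp_eq, ← Category.assoc, IsIso.eq_comp_inv]
    exact θt_naturality_left f g P
  show G₁.app _ ≫ _ ≫ θr f I' P ≫ inv (θt f I' P) ≫ _ = (_ ≫ θr f I P ≫ inv (θt f I P) ≫ _) ≫ G₂.app _
  simp only [Category.assoc]
  refine ((Category.assoc _ _ _).symm.trans ((congrArg (· ≫ _) n1.symm).trans (Category.assoc _ _ _))).trans ?_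
  refine congrArg (_ ≫ ·) ?_
  refine ((Category.assoc _ _ _).symm.trans ((congrArg (· ≫ _) hr).trans (Category.assoc _ _ _))).trans ?_
  refine congrArg (_ ≫ ·) ?_
  refine ((Category.assoc _ _ _).symm.trans ((congrArg (· ≫ _) ht.symm).trans (Category.assoc _ _ _))).trans ?_
  exact congrArg (_ ≫ ·) n2

theorem θ_naturality_left (K : DCoh.D Y) :
    ((Dual.T Y).map (DerivedCategory.Q.map ((pushCx f).map g))).app K ≫ (θ f I').app K =
      (θ f I).app K ≫ (DCoh.Rpush f).map
        (((Dual.T X).map (DerivedCategory.Q.map g)).app ((DCoh.Lpull f).obj K)) := by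
  let a : FF f I ⟶ GG f I' := (Dual.T Y).map (DerivedCategory.Q.map ((pushCx f).map g)) ≫ θ f I'
  let b : FF f I ⟶ GG f I' := θ f I ≫
    whiskerRight (whiskerLeft (DCoh.Lpull f) ((Dual.T X).map (DerivedCategory.Q.map g))) (DCoh.Rpush f)
  have h : a = b := Localization.natTrans_ext DerivedCategory.Q (HomologicalComplex.quasiIso Y.Modules (ComplexShape.up ℤ))
    fun C => by
      show _ ≫ (θ f I').app _ = (θ f I).app _ ≫ _
      rw [θ_app, θ_app]
      exact θ₀_naturality_left f g C
  exact congr_app h K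

omit g

/-- `Rf_*(-) ⊗ K ≅ Rf_*(- ⊗ Lf^* K)`, naturally on quasi-coherent objects. -/
theorem nonempty_projection_TFlip [QuasiCompact f] [QuasiSeparated f] {C : Type*} [Category C] (W : C ⥤ DCoh.D X)
    (hW : ∀ c, DCoh.IsQCohD (W.obj c)) {K : DCoh.D Y} (hK : DCoh.IsQCohD K) :
    Nonempty (W ⋙ DCoh.Rpush f ⋙ (Dual.T Y).flip.obj K ≅
      W ⋙ (Dual.T X).flip.obj ((DCoh.Lpull f).obj K) ⋙ DCoh.Rpush f) := by
  haveI := isGrothendieckAbelian_modules (X := X)
  obtain ⟨N, j, hN⟩ := KInjRes.exists_resolution_functor (A := X.Modules)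
  let A := DCoh.Rpush f ⋙ (Dual.T Y).flip.obj K
  let B := (Dual.T X).flip.obj ((DCoh.Lpull f).obj K) ⋙ DCoh.Rpush f
  haveI : ∀ M, IsIso (DerivedCategory.Q.map (j.app M)) := fun M => KFlat.Stalk.isIso_Q_map _ (hN M).2.1
  haveI : ∀ M, (N.obj M).IsKInjective := fun M => (hN M).2.2.1
  haveI : ∀ M, IsIso ((η₀ f).app (N.obj M)) := fun M => isIso_η₀ f _
  let Φ₀ : DerivedCategory.Q ⋙ A ⟶ DerivedCategory.Q ⋙ B :=
    { app := fun M => A.map (DerivedCategory.Q.map (j.app M)) ≫
        ((Dual.T Y).flip.obj K).map (inv ((η₀ f).app (N.obj M))) ≫ (θ f (N.obj M)).app K ≫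
        inv (B.map (DerivedCategory.Q.map (j.app M)))
      naturality := fun M M' φ => by
        let φ' := N.map φ
        have hj : DerivedCategory.Q.map φ ≫ DerivedCategory.Q.map (j.app M') =
            DerivedCategory.Q.map (j.app M) ≫ DerivedCategory.Q.map φ' :=
          (DerivedCategory.Q.map_comp _ _).symm.trans
            ((congrArg DerivedCategory.Q.map (j.naturality φ)).trans (DerivedCategory.Q.map_comp _ _))
        have h1 : A.map (DerivedCategory.Q.map φ) ≫ A.map (DerivedCategory.Q.map (j.app M')) =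
            A.map (DerivedCategory.Q.map (j.app M)) ≫ A.map (DerivedCategory.Q.map φ') := by
          rw [← Functor.map_comp, hj, Functor.map_comp]
        have h2 : A.map (DerivedCategory.Q.map φ') ≫ ((Dual.T Y).flip.obj K).map (inv ((η₀ f).app (N.obj M'))) =
            ((Dual.T Y).flip.obj K).map (inv ((η₀ f).app (N.obj M))) ≫
              ((Dual.T Y).map (DerivedCategory.Q.map ((pushCx f).map φ'))).app K := by
          show ((Dual.T Y).flip.obj K).map ((DCoh.Rpush f).map (DerivedCategory.Q.map φ')) ≫ _ =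
            _ ≫ ((Dual.T Y).flip.obj K).map (DerivedCategory.Q.map ((pushCx f).map φ'))
          rw [← Functor.map_comp, ← Functor.map_comp]
          refine congrArg _ ?_
          rw [IsIso.comp_inv_eq, Category.assoc, IsIso.eq_inv_comp]
          exact ((η₀ f).naturality φ').symm
        have h3 : ((Dual.T Y).map (DerivedCategory.Q.map ((pushCx f).map φ'))).app K ≫ (θ f (N.obj M')).app K =
            (θ f (N.obj M)).app K ≫ B.map (DerivedCategory.Q.map φ') := θ_naturality_left f φ' K
        have h4 : B.map (DerivedCategory.Q.map φ') ≫ inv (B.map (DerivedCategory.Q.map (j.app M'))) =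
            inv (B.map (DerivedCategory.Q.map (j.app M))) ≫ B.map (DerivedCategory.Q.map φ) := by
          rw [IsIso.comp_inv_eq, Category.assoc, IsIso.eq_inv_comp]
          exact (B.map_comp _ _).symm.trans ((congrArg B.map hj.symm).trans (B.map_comp _ _))
        show A.map (DerivedCategory.Q.map φ) ≫ _ = _ ≫ B.map (DerivedCategory.Q.map φ)
        simp only [Category.assoc]
        rw [reassoc_of% h1, reassoc_of% h2, reassoc_of% h3, h4] }
  let Φ : A ⟶ B := Localization.liftNatTrans DerivedCategory.Q (HomologicalComplex.quasiIso X.Modules (ComplexShape.up ℤ))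
    (DerivedCategory.Q ⋙ A) (DerivedCategory.Q ⋙ B) A B Φ₀
  have hΦ : ∀ E : DCoh.D X, DCoh.IsQCohD E → IsIso (Φ.app E) := fun E hE => by
    let M := DerivedCategory.Q.objPreimage E
    refine (NatTrans.isIso_app_iff_of_iso Φ (DerivedCategory.Q.objObjPreimageIso E)).1 ?_
    haveI : IsIso ((θ f (N.obj M)).app K) := isIso_θ_of_isQCohD f (N.obj M)
      (QCohD.isQCohD_iso (asIso (DerivedCategory.Q.map (j.app M)))
        (QCohD.isQCohD_iso (DerivedCategory.Q.objObjPreimageIso E).symm hE)) K hK
    have hM : Φ.app (DerivedCategory.Q.obj M) = Φ₀.app M := by simp [Φ, Localization.Lifting.iso]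
    rw [hM]
    show IsIso (_ ≫ _ ≫ _ ≫ _)
    infer_instance
  haveI : ∀ c, IsIso ((whiskerLeft W Φ).app c) := fun c => hΦ _ (hW c)
  haveI := NatIso.isIso_of_isIso_app (whiskerLeft W Φ)
  exact ⟨asIso (whiskerLeft W Φ)⟩

end Groth.Agent.H02CA.FMConv
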