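import Groth.Agent.H02CA.FMConv.Comp

/-!
# Base change of Fourier–Mukai functors
-/

set_option autoImplicit false
set_option linter.style.haveILetI false
set_option backward.isDefEq.respectTransparency false
set_option maxHeartbeats 1000000

universe u

open CategoryTheory CategoryTheory.Limits CategoryTheory.Functor AlgebraicGeometry

attribute [local instance] HasDerivedCategory.standard

noncomputable section

namespace Groth.Agent.H02CA.FMConv

open Groth.Agent.H16Derived Groth.Agent.H16Derived.KFlat Groth.Agent.H16Derived.KFlat.Stalk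

variable {S S' X Y : Scheme.{u}}

section Squares

variable (a : X ⟶ S) (b : Y ⟶ S) (g : S' ⟶ S)

/-- The comparison map of the double products. -/
abbrev hmap : pullback (pullback.snd a g) (pullback.snd b g) ⟶ pullback a b :=
  pullback.map (pullback.snd a g) (pullback.snd b g) a b (pullback.fst a g) (pullback.fst b g) g
    (pullback.condition).symm (pullback.condition).symm

theorem isPullback_hmap : IsPullback (hmap a b g) (pullback.snd (pullback.snd a g) (pullback.snd b g))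
    (pullback.snd a b) (pullback.fst b g) := by
  have h1 := (IsPullback.of_hasPullback (pullback.snd a g) (pullback.snd b g)).paste_horiz
    (IsPullback.of_hasPullback a g)
  refine IsPullback.of_right (h₁₂ := pullback.fst a b) (h₂₂ := b) (v₁₃ := a) ?_
    (pullback.lift_snd _ _ _) (IsPullback.of_hasPullback a b)
  rw [pullback.lift_fst, pullback.condition (f := b) (g := g)]
  exact h1

theorem ti_hmap (h : Flat g ∨ Flat a) : BaseChange.TI (pullback.snd a b) (pullback.fst b g) := by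
  rcases h with h | h
  · exact BaseChange.ti_of_flat' _ _
  · exact BaseChange.ti_of_flat _ _

end Squares

/-- `Φ_{K'}(Lπ^* E) ≅ Lϖ^* Φ_K(E)`. -/
theorem nonempty_pull_phi (a : X ⟶ S) (b : Y ⟶ S) (g : S' ⟶ S) [QuasiCompact a] [QuasiSeparated a]
    (hflat : Flat g ∨ Flat a)
    (K : CochainComplex (Limits.pullback a b).Modules ℤ) (hK : DCoh.IsQCohD (DCoh.toD _ K))
    [DCoh.HasLpull (Limits.pullback.fst a b)] [DCoh.HasLTensorCx K] [DCoh.HasRpush (Limits.pullback.snd a b)]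
    [DCoh.HasLpull (Limits.pullback.fst a g)] [DCoh.HasLpull (Limits.pullback.fst b g)]
    [DCoh.HasLpull (hmap a b g)]
    (K' : CochainComplex (Limits.pullback (Limits.pullback.snd a g) (Limits.pullback.snd b g)).Modules ℤ)
    (hK' : Nonempty (DCoh.toD _ K' ≅ (DCoh.Lpull (hmap a b g)).obj (DCoh.toD _ K)))
    [DCoh.HasLpull (Limits.pullback.fst (Limits.pullback.snd a g) (Limits.pullback.snd b g))] [DCoh.HasLTensorCx K']
    [DCoh.HasRpush (Limits.pullback.snd (Limits.pullback.snd a g) (Limits.pullback.snd b g))] :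
    Nonempty (ObjectProperty.ι (DCoh.IsQCohD (X := X)) ⋙ DCoh.Lpull (Limits.pullback.fst a g) ⋙
        FMK.phi (Limits.pullback.snd a g) (Limits.pullback.snd b g) K' ≅
      ObjectProperty.ι (DCoh.IsQCohD (X := X)) ⋙ FMK.phi a b K ⋙ DCoh.Lpull (Limits.pullback.fst b g)) := by
  let ι₀ := ObjectProperty.ι (DCoh.IsQCohD (X := X))
  let r₁ := pullback.fst a b
  let r₂ := pullback.snd a b
  let π := pullback.fst a g
  let w := pullback.fst b g
  let h := hmap a b g
  let u₁ := pullback.fst (pullback.snd a g) (pullback.snd b g)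
  let u₂ := pullback.snd (pullback.snd a g) (pullback.snd b g)
  haveI := hasLpull (h ≫ r₁)
  obtain ⟨eK⟩ := hK'
  let k := DerivedCategory.Q.obj K
  let W₁ := ι₀ ⋙ DCoh.Lpull r₁ ⋙ (Dual.T _).flip.obj k
  have hW₁ : ∀ E, DCoh.IsQCohD (W₁.obj E) := fun E => LeadBrown.isQCohD_T (QCohD.isQCohD_lpull _ E.property) hK
  obtain ⟨bc⟩ := nonempty_bc_nat (isPullback_hmap a b g) (ti_hmap a b g hflat) W₁ hW₁
  obtain ⟨lt⟩ := LeadBrown.nonempty_lpull_TFlip h k
  obtain ⟨ll⟩ := H25FM.nonempty_lpull_comp h r₁ (h ≫ r₁) rfl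
  obtain ⟨ll'⟩ := H25FM.nonempty_lpull_comp u₁ π (h ≫ r₁) (pullback.lift_fst _ _ _).symm
  let e₁ : ι₀ ⋙ FMK.phi a b K ⋙ DCoh.Lpull w ≅ W₁ ⋙ DCoh.Rpush r₂ ⋙ DCoh.Lpull w :=
    isoWhiskerLeft ι₀ (isoWhiskerRight (isoWhiskerLeft (DCoh.Lpull r₁)
      (isoWhiskerRight (Dual.ltensorCxIsoT K).symm _)) _)
  let e₂ : W₁ ⋙ DCoh.Lpull h ≅
      ι₀ ⋙ DCoh.Lpull π ⋙ DCoh.Lpull u₁ ⋙ DCoh.LTensorCx K' :=
    isoWhiskerLeft (ι₀ ⋙ DCoh.Lpull r₁) lt ≪≫
      isoWhiskerLeft ι₀ (isoWhiskerRight (ll ≪≫ ll'.symm) _ ≪≫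
        isoWhiskerLeft (DCoh.Lpull π ⋙ DCoh.Lpull u₁) ((Dual.T _).flip.mapIso eK.symm ≪≫ Dual.ltensorCxIsoT K'))
  exact ⟨(e₁ ≪≫ bc ≪≫ (isoWhiskerRight e₂ (DCoh.Rpush u₂) :
    (W₁ ⋙ DCoh.Lpull h) ⋙ DCoh.Rpush u₂ ≅ _)).symm⟩

end Groth.Agent.H02CA.FMConv
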